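import Groth.Agent.AlgSpDec.LimFppfLocal
import Groth.Agent.AlgSpDec.Glue
import Groth.Agent.AlgSpDec.LqfQuot
import Groth.Agent.AlgSpDec.LqfSplitZ
import Groth.Agent.AlgSpLib.EtaleSmoothLocal
import Groth.Agent.AlgSpLib.EtLocalInst

/-!
# Descent along jointly surjective etale families and affine charts of spaces
-/

set_option autoImplicit false
set_option backward.isDefEq.respectTransparency false
set_option backward.isDefEq.respectTransparency.types false

universe u

open CategoryTheory CategoryTheory.Limits AlgebraicGeometry Opposite AlgSp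

namespace Groth.Agent.EtColim

open Groth.Agent.AlgSpLib Groth.Agent.AlgSpPts

variable {S : Scheme.{u}}

section Family

variable {P : Sp S} (hP : IsAlgSpace P) {κ : Type u} {U : κ → Sp S} (hU : ∀ k, IsAlgSpace (U k))
  (u : ∀ k, U k ⟶ P) (hu : ∀ k, IsEtaleMor (u k)) (hs : ∀ x, ∃ k y, Points.map (u k) y = x)

include hP hU hu hs

/-- A jointly surjective etale family is refined by an etale surjection from a disjoint union. -/
theorem exists_sigma_atlas :
    ∃ (A : κ → Over S) (a : ∀ k, (yon S).obj (A k) ⟶ U k) (W : (yon S).obj (AlgSpDec.sigmaOver A) ⟶ P),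
      (∀ k, RepWith @Etale (a k)) ∧ (∀ k, RepWith @Surjective (a k)) ∧ RepWith @Etale W ∧
        RepWith @Surjective W ∧ ∀ k, (yon S).map (AlgSpDec.sigmaι A k) ≫ W = a k ≫ u k := by
  choose A a ha has using fun k => (hU k).atlas
  obtain ⟨W, hW⟩ := AlgSpDec.exists_hom_sigma A (fun k => a k ≫ u k)
  have hWe : RepWith @Etale W := AlgSpDec.repWith_etale_sigma (hP.representable_from_yon W) fun k => by
    rw [hW k]; exact hu k _ (ha k)
  refine ⟨A, a, W, ha, has, hWe, (repWith_surjective_iff hWe.rep).2 fun x => ?_, hW⟩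
  obtain ⟨k, y, rfl⟩ := hs x
  obtain ⟨z, rfl⟩ := surjective_map_of_repWith (has k) y
  exact ⟨Points.map ((yon S).map (AlgSpDec.sigmaι A k)) z, by
    rw [← Points.map_comp, ← Points.map_comp, hW k]⟩

/-- Maps out of the target of a jointly surjective etale family are determined on the family. -/
theorem hom_ext_family {F : Sp S} {g g' : P ⟶ F} (h : ∀ k, u k ≫ g = u k ≫ g') : g = g' := by
  obtain ⟨A, a, W, ha, has, hWe, hWs, hW⟩ := exists_sigma_atlas hP hU u hu hs
  have : Epi W := epi_of_etale_surjective hWe hWs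
  rw [← cancel_epi W]
  refine AlgSpDec.hom_ext_sigma A fun k => ?_
  rw [reassoc_of% (hW k), reassoc_of% (hW k), h k]

/-- Maps on a jointly surjective etale family agreeing on overlaps descend. -/
theorem exists_desc_family {F : Sp S} (g : ∀ k, U k ⟶ F)
    (hg : ∀ k l, pullback.fst (u k) (u l) ≫ g k = pullback.snd (u k) (u l) ≫ g l) :
    ∃ g₀ : P ⟶ F, ∀ k, u k ≫ g₀ = g k := by
  obtain ⟨A, a, W, ha, has, hWe, hWs, hW⟩ := exists_sigma_atlas hP hU u hu hs
  obtain ⟨G, hG⟩ := AlgSpDec.exists_hom_sigma A (fun k => a k ≫ g k)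
  let R := hWe.rep.pullback W
  let t : R ⟶ AlgSpDec.sigmaOver A := hWe.rep.fst' W
  let s : R ⟶ AlgSpDec.sigmaOver A := hWe.rep.snd W
  have sq : IsPullback ((yon S).map t) ((yon S).map s) W W := hWe.rep.isPullback' W
  let Q : κ × κ → Over S := fun p =>
    pullback (pullback.snd (AlgSpDec.sigmaι A p.1) t ≫ s) (AlgSpDec.sigmaι A p.2)
  let π : ∀ p, Q p ⟶ R := fun p => pullback.fst _ _ ≫ pullback.snd (AlgSpDec.sigmaι A p.1) t
  have h₁ : ∀ p : κ × κ, IsOpenImmersion (pullback.snd (AlgSpDec.sigmaι A p.1) t).left := fun p =>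
    MorphismProperty.of_isPullback (P := @IsOpenImmersion)
      ((IsPullback.of_hasPullback (AlgSpDec.sigmaι A p.1) t).map (Over.forget S))
      (inferInstanceAs (IsOpenImmersion (AlgSpDec.sigmaι A p.1).left))
  have h₂ : ∀ p : κ × κ, IsOpenImmersion
      (pullback.fst (pullback.snd (AlgSpDec.sigmaι A p.1) t ≫ s) (AlgSpDec.sigmaι A p.2)).left := fun p =>
    MorphismProperty.of_isPullback (P := @IsOpenImmersion)
      ((IsPullback.of_hasPullback _ (AlgSpDec.sigmaι A p.2)).flip.map (Over.forget S))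
      (inferInstanceAs (IsOpenImmersion (AlgSpDec.sigmaι A p.2).left))
  have hπ : ∀ p, IsOpenImmersion (π p).left := fun p => by
    have := h₁ p
    have := h₂ p
    change IsOpenImmersion (_ ≫ _)
    infer_instance
  have : ∀ p, Flat (π p).left := fun p => have := hπ p; inferInstance
  have : ∀ p, LocallyOfFinitePresentation (π p).left := fun p => have := hπ p; inferInstance
  have hjs : ∀ r : ↥R.left, ∃ (p : κ × κ) (v : ↥(Q p).left), (π p).left v = r := by
    intro r
    obtain ⟨k, v, hv⟩ := AlgSpDec.exists_sigmaι A (t.left r)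
    obtain ⟨l, w, hw⟩ := AlgSpDec.exists_sigmaι A (s.left r)
    obtain ⟨z, -, hz⟩ := Scheme.exists_preimage_of_isPullback
      ((IsPullback.of_hasPullback (AlgSpDec.sigmaι A k) t).map (Over.forget S)) v r hv
    obtain ⟨z', hz', -⟩ := Scheme.exists_preimage_of_isPullback
      ((IsPullback.of_hasPullback (pullback.snd (AlgSpDec.sigmaι A k) t ≫ s) (AlgSpDec.sigmaι A l)).map
        (Over.forget S)) z w ((congrArg s.left hz).trans hw.symm)
    exact ⟨(k, l), z', (congrArg _ hz').trans hz⟩
  have key : (yon S).map t ≫ G = (yon S).map s ≫ G := by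
    refine hom_ext_of_covering _ _ (R := Sieve.ofArrows Q π)
      (AlgSpDec.mem_J_of_jointly π hjs _ fun p => Sieve.ofArrows_mk _ _ p) ?_
    rintro T φ hφ
    obtain ⟨⟨k, l⟩, χ, rfl⟩ := (Sieve.mem_ofArrows_iff _ _ φ).1 hφ
    let x : Q (k, l) ⟶ A k := pullback.fst _ _ ≫ pullback.fst (AlgSpDec.sigmaι A k) t
    let y : Q (k, l) ⟶ A l := pullback.snd _ _
    have e₁ : π (k, l) ≫ t = x ≫ AlgSpDec.sigmaι A k := by
      simp only [π, x, Category.assoc, pullback.condition]
    have e₂ : π (k, l) ≫ s = y ≫ AlgSpDec.sigmaι A l := by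
      simp only [π, y, Category.assoc, pullback.condition]
    have e₁' : (yon S).map (π (k, l)) ≫ (yon S).map t = (yon S).map x ≫ (yon S).map (AlgSpDec.sigmaι A k) := by
      rw [← CategoryTheory.Functor.map_comp, ← CategoryTheory.Functor.map_comp, e₁]
    have e₂' : (yon S).map (π (k, l)) ≫ (yon S).map s = (yon S).map y ≫ (yon S).map (AlgSpDec.sigmaι A l) := by
      rw [← CategoryTheory.Functor.map_comp, ← CategoryTheory.Functor.map_comp, e₂]
    have e : ((yon S).map x ≫ a k) ≫ u k = ((yon S).map y ≫ a l) ≫ u l := by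
      rw [Category.assoc, Category.assoc, ← hW k, ← hW l, ← Category.assoc, ← Category.assoc, ← e₁', ← e₂',
        Category.assoc, Category.assoc, sq.w]
    have := congrArg (pullback.lift _ _ e ≫ ·) (hg k l)
    simp only [pullback.lift_fst_assoc, pullback.lift_snd_assoc, Category.assoc] at this
    rw [Functor.map_comp, Category.assoc, Category.assoc]
    congr 1
    rw [reassoc_of% e₁', reassoc_of% e₂', hG k, hG l]
    exact this
  have := isLocallySurjective_of_etale_surjective hWe hWs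
  obtain ⟨g₀, hg₀⟩ := AlgSpDec.exists_desc_of_kernelPair sq G key
  refine ⟨g₀, fun k => ?_⟩
  have : Epi (a k) := epi_of_etale_surjective (ha k) (has k)
  rw [← cancel_epi (a k), ← reassoc_of% (hW k), hg₀, hG k]

end Family

/-- A morphism of spaces has affine charts over affine charts of the target. -/
theorem exists_charts {B T : Sp S} (hB : IsAlgSpace B) (hT : IsAlgSpace T) (tB : T ⟶ B) :
    ∃ (κ : Type u) (B' Z : κ → Over S) (b : ∀ k, (yon S).obj (B' k) ⟶ B) (z : ∀ k, Z k ⟶ B' k)
      (q : ∀ k, (yon S).obj (Z k) ⟶ T), (∀ k, IsAffine (B' k).left) ∧ (∀ k, IsAffine (Z k).left) ∧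
      (∀ k, RepWith @Etale (b k)) ∧ (∀ k, RepWith @Etale (q k)) ∧
      (∀ k, q k ≫ tB = (yon S).map (z k) ≫ b k) ∧ ∀ p, ∃ k w, Points.map (q k) w = p := by
  obtain ⟨V, pV, hpV, hpV'⟩ := hB.atlas
  let 𝒱 := V.left.affineOpenCover
  let B' : 𝒱.I₀ → Over S := fun j => Over.mk (𝒱.f j ≫ V.hom)
  let β : ∀ j, B' j ⟶ V := fun j => Over.homMk (𝒱.f j) rfl
  let b : ∀ j, (yon S).obj (B' j) ⟶ B := fun j => (yon S).map (β j) ≫ pV
  have hb : ∀ j, RepWith @Etale (b j) := fun j => by
    have : IsOpenImmersion (β j).left := 𝒱.openCover.map_prop j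
    exact repWith_comp ((repWith_yon_map_iff _ _).2 (inferInstance : Etale (β j).left)) hpV
  choose A a ha has using fun j => (isAlgSpace_pullback hT (IsAlgSpace.yon_obj (B' j)) hB tB (b j)).atlas
  let κ := Σ j : 𝒱.I₀, (A j).left.affineOpenCover.I₀
  let Z : κ → Over S := fun k => Over.mk ((A k.1).left.affineOpenCover.f k.2 ≫ (A k.1).hom)
  let ζ : ∀ k : κ, Z k ⟶ A k.1 := fun k => Over.homMk ((A k.1).left.affineOpenCover.f k.2) rfl
  let zf : ∀ k : κ, (yon S).obj (Z k) ⟶ (yon S).obj (B' k.1) := fun k =>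
    (yon S).map (ζ k) ≫ a k.1 ≫ pullback.snd tB (b k.1)
  refine ⟨κ, fun k => B' k.1, Z, fun k => b k.1, fun k => (yon S).preimage (zf k),
    fun k => (yon S).map (ζ k) ≫ a k.1 ≫ pullback.fst tB (b k.1), fun k => inferInstanceAs (IsAffine (Spec _)),
    fun k => inferInstanceAs (IsAffine (Spec _)), fun k => hb k.1, fun k => ?_, fun k => ?_, fun p => ?_⟩
  · have : IsOpenImmersion (ζ k).left := (A k.1).left.affineOpenCover.openCover.map_prop k.2
    exact repWith_comp ((repWith_yon_map_iff _ _).2 (inferInstance : Etale (ζ k).left))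
      (repWith_comp (ha k.1) (repWith_fst tB (hb k.1)))
  · rw [(yon S).map_preimage]
    simp only [zf, Category.assoc, pullback.condition]
  · obtain ⟨v, hv⟩ := surjective_ofPt hpV' (Points.map tB p)
    obtain ⟨j, y, hy⟩ := 𝒱.openCover.exists_eq v
    have e : Points.map tB p = Points.map (b j) (Points.ofScheme (B' j) y) := by
      rw [← hv, ← Points.ofPt_eq_map_ofScheme, ofPt_comp, ← hy]
      rfl
    obtain ⟨x, hx, -⟩ := exists_point_of_isPullback (IsPullback.of_hasPullback tB (b j)) e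
    obtain ⟨w, hw⟩ := surjective_ofPt (has j) x
    obtain ⟨m, w', hw'⟩ := (A j).left.affineOpenCover.openCover.exists_eq w
    refine ⟨⟨j, m⟩, Points.ofScheme (Z ⟨j, m⟩) w', ?_⟩
    rw [← Points.ofPt_eq_map_ofScheme, ofPt_comp, ← Points.map_ofPt, ← hx, ← hw, ← hw']
    rfl

end Groth.Agent.EtColim
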