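import Groth.Agent.AlgSpLib.EtaleSmoothLocal
import Groth.Agent.AlgSpLib.Rep
import Groth.Agent.AlgSpLib.EtLocalInst

/-!
# Compatible families of maps on the base change of a cocone
-/

set_option autoImplicit false
set_option backward.isDefEq.respectTransparency false
set_option backward.isDefEq.respectTransparency.types false

universe v w u

open CategoryTheory CategoryTheory.Limits AlgebraicGeometry Opposite AlgSp

namespace Groth.Agent.EtColim

open Groth.Agent.AlgSpLib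

variable {S : Scheme.{u}} {B : Space S}

/-- The sheaf of a space over `B`. -/
abbrev sh (X : Over B) : Sp S := X.left.obj

/-- The structure map of a space over `B`. -/
abbrev st (X : Over B) : sh X ⟶ B.obj := X.hom.hom

/-- The map of sheaves of a morphism over `B`. -/
abbrev mr {X Y : Over B} (f : X ⟶ Y) : sh X ⟶ sh Y := f.left.hom

theorem mr_st {X Y : Over B} (f : X ⟶ Y) : mr f ≫ st Y = st X :=
  congrArg (fun k => k.hom) (Over.w f)

theorem mr_ext {X Y : Over B} {f g : X ⟶ Y} (h : mr f = mr g) : f = g :=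
  Over.OverMorphism.ext (ObjectProperty.hom_ext _ h)

theorem mr_comp {X Y Z : Over B} (f : X ⟶ Y) (g : Y ⟶ Z) : mr (f ≫ g) = mr f ≫ mr g := rfl

theorem alg (X : Over B) : IsAlgSpace (sh X) := X.left.property

/-- A space over `B` from a sheaf. -/
def mkObj (F : Sp S) (hF : IsAlgSpace F) (p : F ⟶ B.obj) : Over B :=
  Over.mk (ObjectProperty.homMk p : (⟨F, hF⟩ : Space S) ⟶ B)

/-- A morphism over `B` from a map of sheaves. -/
def mkHom {X Y : Over B} (f : sh X ⟶ sh Y) (h : f ≫ st Y = st X) : X ⟶ Y :=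
  Over.homMk (ObjectProperty.homMk f) (ObjectProperty.hom_ext _ h)

variable {I : Type v} [Category.{w} I] {D : I ⥤ Over B} {X : Sp S} (γ : ∀ i, sh (D.obj i) ⟶ X)

/-- Compatibility of maps out of the diagram. -/
def Compat : Prop := ∀ ⦃i j : I⦄ (g : i ⟶ j), mr (D.map g) ≫ γ j = γ i

/-- The transition map of the base change of a cocone. -/
noncomputable def tr (hγ : Compat γ) {U : Sp S} (u : U ⟶ X) {i j : I} (g : i ⟶ j) :
    pullback u (γ i) ⟶ pullback u (γ j) :=
  pullback.lift (pullback.fst _ _) (pullback.snd _ _ ≫ mr (D.map g))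
    (by rw [Category.assoc, hγ g]; exact pullback.condition)

variable {γ} (hγ : Compat γ) {U : Sp S} (u : U ⟶ X)

@[reassoc]
theorem tr_fst {i j : I} (g : i ⟶ j) : tr γ hγ u g ≫ pullback.fst u (γ j) = pullback.fst u (γ i) :=
  pullback.lift_fst _ _ _

@[reassoc]
theorem tr_snd {i j : I} (g : i ⟶ j) :
    tr γ hγ u g ≫ pullback.snd u (γ j) = pullback.snd u (γ i) ≫ mr (D.map g) :=
  pullback.lift_snd _ _ _

variable (γ) in
/-- Naturality of a family of maps out of the base change of a cocone. -/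
def IsNat {Y : Sp S} (φ : ∀ i, pullback u (γ i) ⟶ Y) : Prop :=
  ∀ ⦃i j : I⦄ (g : i ⟶ j), tr γ hγ u g ≫ φ j = φ i

theorem isNat_fst {Y : Sp S} (f : U ⟶ Y) : IsNat γ hγ u fun i => pullback.fst u (γ i) ≫ f :=
  fun i j g => by rw [tr_fst_assoc]

/-- Restriction along a map over the target of the cocone. -/
noncomputable def res (γ : ∀ i, sh (D.obj i) ⟶ X) {U' : Sp S} {u : U ⟶ X} {u' : U' ⟶ X} (k : U' ⟶ U)
    (h : k ≫ u = u') (i : I) : pullback u' (γ i) ⟶ pullback u (γ i) :=
  pullback.lift (pullback.fst _ _ ≫ k) (pullback.snd _ _)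
    (by rw [Category.assoc, h]; exact pullback.condition)

@[reassoc]
theorem res_fst {U' : Sp S} {u : U ⟶ X} {u' : U' ⟶ X} (k : U' ⟶ U) (h : k ≫ u = u') (i : I) :
    res γ k h i ≫ pullback.fst u (γ i) = pullback.fst u' (γ i) ≫ k :=
  pullback.lift_fst _ _ _

@[reassoc]
theorem res_snd {U' : Sp S} {u : U ⟶ X} {u' : U' ⟶ X} (k : U' ⟶ U) (h : k ≫ u = u') (i : I) :
    res γ k h i ≫ pullback.snd u (γ i) = pullback.snd u' (γ i) :=
  pullback.lift_snd _ _ _

theorem res_res {U' U'' : Sp S} {u : U ⟶ X} {u' : U' ⟶ X} {u'' : U'' ⟶ X} (k : U' ⟶ U) (h : k ≫ u = u')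
    (k' : U'' ⟶ U') (h' : k' ≫ u' = u'') (m : U'' ⟶ U) (hm : m ≫ u = u'') (e : k' ≫ k = m) (i : I) :
    res γ k' h' i ≫ res γ k h i = res γ m hm i := by
  apply pullback.hom_ext
  · rw [Category.assoc, res_fst, res_fst_assoc, res_fst, e]
  · rw [Category.assoc, res_snd, res_snd, res_snd]

theorem IsNat.res {U' : Sp S} {u : U ⟶ X} {u' : U' ⟶ X} {Y : Sp S} {φ : ∀ i, pullback u (γ i) ⟶ Y}
    (hn : IsNat γ hγ u φ) (k : U' ⟶ U) (h : k ≫ u = u') :
    IsNat γ hγ u' fun i => EtColim.res γ k h i ≫ φ i := fun i j g => by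
  have e : tr γ hγ u' g ≫ EtColim.res γ k h j = EtColim.res γ k h i ≫ tr γ hγ u g := by
    apply pullback.hom_ext
    · simp only [Category.assoc, res_fst, tr_fst, tr_fst_assoc]
    · simp only [Category.assoc, res_snd, tr_snd, res_snd_assoc]
  rw [reassoc_of% e, hn g]

variable (hX : IsAlgSpace X) (hU : IsAlgSpace U)

/-- The base change of a cocone as a diagram over `B`. -/
noncomputable def sysD : I ⥤ Over B where
  obj i := mkObj (pullback u (γ i)) (isAlgSpace_pullback hU (alg _) hX u (γ i)) (pullback.snd _ _ ≫ st (D.obj i))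
  map {i j} g := mkHom (tr γ hγ u g) (by
    change tr γ hγ u g ≫ pullback.snd _ _ ≫ st (D.obj j) = pullback.snd _ _ ≫ st (D.obj i)
    rw [tr_snd_assoc, mr_st])
  map_id i := mr_ext (pullback.hom_ext (by
      change tr γ hγ u (𝟙 i) ≫ pullback.fst u (γ i) = 𝟙 _ ≫ pullback.fst u (γ i)
      rw [tr_fst, Category.id_comp]) (by
      change tr γ hγ u (𝟙 i) ≫ pullback.snd u (γ i) = 𝟙 _ ≫ pullback.snd u (γ i)
      rw [tr_snd, Category.id_comp, D.map_id]
      exact Category.comp_id _))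
  map_comp {i j k} g g' := mr_ext (pullback.hom_ext (by
      change tr γ hγ u (g ≫ g') ≫ pullback.fst u (γ k) = (tr γ hγ u g ≫ tr γ hγ u g') ≫ pullback.fst u (γ k)
      simp only [Category.assoc, tr_fst]) (by
      change tr γ hγ u (g ≫ g') ≫ pullback.snd u (γ k) = (tr γ hγ u g ≫ tr γ hγ u g') ≫ pullback.snd u (γ k)
      rw [tr_snd, Category.assoc, tr_snd, tr_snd_assoc, D.map_comp]
      rfl))

/-- The projection of the base change to the diagram. -/
noncomputable def sysα : sysD hγ u hX hU ⟶ D where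
  app i := mkHom (pullback.snd u (γ i)) rfl
  naturality i j g := mr_ext (tr_snd hγ u g)

/-- The cocone on the base change. -/
noncomputable def sysι (xB : X ⟶ B.obj) (hxB : ∀ i, γ i ≫ xB = st (D.obj i)) :
    sysD hγ u hX hU ⟶ (Functor.const I).obj (mkObj U hU (u ≫ xB)) where
  app i := mkHom (pullback.fst u (γ i)) (by
    change pullback.fst u (γ i) ≫ u ≫ xB = pullback.snd u (γ i) ≫ st (D.obj i)
    rw [pullback.condition_assoc, hxB])
  naturality i j g := mr_ext (by
    change tr γ hγ u g ≫ pullback.fst u (γ j) = pullback.fst u (γ i) ≫ 𝟙 _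
    rw [Category.comp_id, tr_fst])

theorem sys_isPullback {i j : I} (g : i ⟶ j) :
    IsPullback (mr ((sysD hγ u hX hU).map g)) (mr ((sysα hγ u hX hU).app i)) (mr ((sysα hγ u hX hU).app j))
      (mr (D.map g)) := by
  refine IsPullback.of_right (h₁₂ := pullback.fst u (γ j)) (v₁₃ := u) (h₂₂ := γ j) ?_ (tr_snd hγ u g)
    (IsPullback.of_hasPullback u (γ j))
  change IsPullback (tr γ hγ u g ≫ pullback.fst u (γ j)) (pullback.snd u (γ i)) u (mr (D.map g) ≫ γ j)
  rw [tr_fst, hγ g]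
  exact IsPullback.of_hasPullback u (γ i)

section Cocone

variable (c : Cocone D)

/-- The coprojection of a cocone. -/
abbrev cm (i : I) : sh (D.obj i) ⟶ sh c.pt := mr (c.ι.app i)

theorem cm_compat : Compat (cm c) := fun i j g => (mr_comp _ _).symm.trans (congrArg mr (c.w g))

theorem cm_st (i : I) : cm c i ≫ st c.pt = st (D.obj i) := mr_st _

/-- Full faithfulness of base change along the cocone. -/
def FullyFaithful : Prop :=
  ∀ (U U' : Over B) (u : U ⟶ c.pt) (u' : U' ⟶ c.pt), AlgSp.IsEtaleMor u.left.hom → AlgSp.IsEtaleMor u'.left.hom →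
      ∀ (DU DU' : I ⥤ Over B) (αU : DU ⟶ D) (αU' : DU' ⟶ D) (ιU : DU ⟶ (Functor.const I).obj U)
        (ιU' : DU' ⟶ (Functor.const I).obj U'),
        (∀ i, IsPullback (ιU.app i).left.hom (αU.app i).left.hom u.left.hom (c.ι.app i).left.hom) →
        (∀ i, IsPullback (ιU'.app i).left.hom (αU'.app i).left.hom u'.left.hom (c.ι.app i).left.hom) →
        ∀ (β : DU ⟶ DU'), β ≫ αU' = αU →
          ∃! m : U ⟶ U', m ≫ u' = u ∧ ∀ i, ιU.app i ≫ m = β.app i ≫ ιU'.app i

variable {c}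

theorem existsUnique_hom_etale (h₁' : FullyFaithful c) {U U' : Sp S} (hU : IsAlgSpace U) (hU' : IsAlgSpace U')
    {u : U ⟶ sh c.pt} {u' : U' ⟶ sh c.pt} (hu : IsEtaleMor u) (hu' : IsEtaleMor u')
    (β : ∀ i, pullback u (cm c i) ⟶ U') (hn : IsNat (cm c) (cm_compat c) u β)
    (hβ : ∀ i, β i ≫ u' = pullback.fst u (cm c i) ≫ u) :
    ∃! m : U ⟶ U', m ≫ u' = u ∧ ∀ i, pullback.fst u (cm c i) ≫ m = β i := by
  let hP := alg c.pt
  let Uo := mkObj U hU (u ≫ st c.pt)
  let Uo' := mkObj U' hU' (u' ≫ st c.pt)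
  let uo : Uo ⟶ c.pt := mkHom (X := Uo) u rfl
  let uo' : Uo' ⟶ c.pt := mkHom (X := Uo') u' rfl
  let β' : ∀ i, pullback u (cm c i) ⟶ pullback u' (cm c i) := fun i =>
    pullback.lift (β i) (pullback.snd _ _) (by rw [hβ i]; exact pullback.condition)
  let βo : sysD (cm_compat c) u hP hU ⟶ sysD (cm_compat c) u' hP hU' :=
    { app := fun i => mkHom (β' i) (by
        change β' i ≫ pullback.snd u' (cm c i) ≫ st (D.obj i) = pullback.snd u (cm c i) ≫ st (D.obj i)
        rw [pullback.lift_snd_assoc])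
      naturality := fun i j g => mr_ext (by
        change tr _ (cm_compat c) u g ≫ β' j = β' i ≫ tr _ (cm_compat c) u' g
        apply pullback.hom_ext
        · simp only [β', Category.assoc, pullback.lift_fst, tr_fst, hn g]
        · simp only [β', Category.assoc, pullback.lift_snd, tr_snd, pullback.lift_snd_assoc]) }
  obtain ⟨m, ⟨hm₁, hm₂⟩, hm⟩ := h₁' Uo Uo' uo uo' hu hu' _ _ (sysα (cm_compat c) u hP hU)
    (sysα (cm_compat c) u' hP hU') (sysι (cm_compat c) u hP hU (st c.pt) (cm_st c))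
    (sysι (cm_compat c) u' hP hU' (st c.pt) (cm_st c))
    (fun i => IsPullback.of_hasPullback u (cm c i)) (fun i => IsPullback.of_hasPullback u' (cm c i)) βo
    (by ext i : 2; exact mr_ext (pullback.lift_snd _ _ _))
  refine ⟨mr m, ⟨congrArg mr hm₁, fun i => (congrArg mr (hm₂ i)).trans (pullback.lift_fst _ _ _)⟩, ?_⟩
  rintro n ⟨hn₁, hn₂⟩
  refine congrArg mr (hm (mkHom (X := Uo) (Y := Uo') n ?_) ⟨mr_ext hn₁, fun i => mr_ext ?_⟩)
  · change n ≫ u' ≫ st c.pt = u ≫ st c.pt
    rw [reassoc_of% hn₁]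
  · exact (hn₂ i).trans (pullback.lift_fst _ _ _).symm

theorem hom_ext_etale (h₁' : FullyFaithful c) {U U' : Sp S} (hU : IsAlgSpace U) (hU' : IsAlgSpace U')
    {u : U ⟶ sh c.pt} {u' : U' ⟶ sh c.pt} (hu : IsEtaleMor u) (hu' : IsEtaleMor u') {m m' : U ⟶ U'}
    (hm : m ≫ u' = u) (hm' : m' ≫ u' = u)
    (h : ∀ i, pullback.fst u (cm c i) ≫ m = pullback.fst u (cm c i) ≫ m') : m = m' := by
  obtain ⟨n, -, hn⟩ := existsUnique_hom_etale h₁' hU hU' hu hu' (fun i => pullback.fst u (cm c i) ≫ m')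
    (isNat_fst (cm_compat c) u m') (fun i => by rw [Category.assoc, hm'])
  exact (hn m ⟨hm, h⟩).trans (hn m' ⟨hm', fun _ => rfl⟩).symm

end Cocone

end Groth.Agent.EtColim
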