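import Groth.Agent.EtColim.Charts
import Groth.Agent.EtColim.Sys

/-!
# Maps to affine schemes over affine etale charts of the base
-/

set_option autoImplicit false
set_option backward.isDefEq.respectTransparency false
set_option backward.isDefEq.respectTransparency.types false

universe v w u

open CategoryTheory CategoryTheory.Limits AlgebraicGeometry Opposite AlgSp

namespace Groth.Agent.EtColim

open Groth.Agent.AlgSpLib

variable {S : Scheme.{u}} {B : Space S} {I : Type v} [Category.{w} I] {D : I ⥤ Over B} {c : Cocone D}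

/-- The colimit condition on affine pieces. -/
def AffineUnique (c : Cocone D) : Prop :=
  ∀ (B' Zs Us : Over S) (b : (AlgSp.yon S).obj B' ⟶ B.obj) (z : Zs ⟶ B') {XB : AlgSp.Space S}
      (x₁ : XB ⟶ c.pt.left) (x₂ : XB.obj ⟶ (AlgSp.yon S).obj B') (uu : (AlgSp.yon S).obj Us ⟶ XB.obj)
      (DU : I ⥤ AlgSp.Space S) (αU : DU ⟶ D ⋙ Over.forget B)
      (ιU : DU ⟶ (Functor.const I).obj ((AlgSp.ofScheme S).obj Us))
      (φ : DU ⟶ (Functor.const I).obj ((AlgSp.ofScheme S).obj Zs)),
      IsAffine B'.left → IsAffine Zs.left → IsAffine Us.left → AlgSp.RepWith @Etale b →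
      IsPullback x₁.hom x₂ c.pt.hom.hom b → AlgSp.RepWith @Etale uu →
      (∀ i, IsPullback (ιU.app i).hom (αU.app i).hom (uu ≫ x₁.hom) (c.ι.app i).left.hom) →
      (∀ i, (φ.app i).hom ≫ (AlgSp.yon S).map z = (ιU.app i).hom ≫ uu ≫ x₂) →
        ∃! fz : Us ⟶ Zs, (AlgSp.yon S).map fz ≫ (AlgSp.yon S).map z = uu ≫ x₂ ∧
          ∀ i, (ιU.app i).hom ≫ (AlgSp.yon S).map fz = (φ.app i).hom

variable (h₂ : AffineUnique c) {B' Zs : Over S} [IsAffine B'.left] [IsAffine Zs.left]
  (b : (yon S).obj B' ⟶ B.obj) (hb : RepWith @Etale b) (z : Zs ⟶ B')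

include h₂ hb

/-- The affine case. -/
theorem existsUnique_affine (Us : Over S) [IsAffine Us.left] {u : (yon S).obj Us ⟶ sh c.pt}
    (t : (yon S).obj Us ⟶ pullback (st c.pt) b) (ht : t ≫ pullback.fst (st c.pt) b = u)
    (hte : IsEtaleMor t) (φ : ∀ i, pullback u (cm c i) ⟶ (yon S).obj Zs)
    (hn : IsNat (cm c) (cm_compat c) u φ)
    (hφ : ∀ i, φ i ≫ (yon S).map z = pullback.fst u (cm c i) ≫ t ≫ pullback.snd (st c.pt) b) :
    ∃! f : (yon S).obj Us ⟶ (yon S).obj Zs, f ≫ (yon S).map z = t ≫ pullback.snd (st c.pt) b ∧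
      ∀ i, pullback.fst u (cm c i) ≫ f = φ i := by
  subst ht
  let XB : Space S := ⟨pullback (st c.pt) b, isAlgSpace_pullback (alg _) (IsAlgSpace.yon_obj B') B.property _ _⟩
  let x₁ : XB ⟶ c.pt.left := ObjectProperty.homMk (pullback.fst (st c.pt) b)
  let u := t ≫ pullback.fst (st c.pt) b
  let DU : I ⥤ Space S := sysD (cm_compat c) u (alg c.pt) (IsAlgSpace.yon_obj Us) ⋙ Over.forget B
  let αU : DU ⟶ D ⋙ Over.forget B :=
    Functor.whiskerRight (sysα (cm_compat c) u (alg c.pt) (IsAlgSpace.yon_obj Us)) (Over.forget B)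
  let ιU : DU ⟶ (Functor.const I).obj ((ofScheme S).obj Us) :=
    { app := fun i => ObjectProperty.homMk (pullback.fst u (cm c i))
      naturality := fun i j g => ObjectProperty.hom_ext _ (by
        change tr _ (cm_compat c) u g ≫ pullback.fst u (cm c j) = pullback.fst u (cm c i) ≫ 𝟙 _
        rw [Category.comp_id, tr_fst]) }
  let φo : DU ⟶ (Functor.const I).obj ((ofScheme S).obj Zs) :=
    { app := fun i => ObjectProperty.homMk (φ i)
      naturality := fun i j g => ObjectProperty.hom_ext _ (by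
        change tr _ (cm_compat c) u g ≫ φ j = φ i ≫ 𝟙 _
        rw [Category.comp_id, hn g]) }
  obtain ⟨fz, ⟨h1, h2⟩, huniq⟩ := h₂ B' Zs Us b z (XB := XB) x₁ (pullback.snd (st c.pt) b) t DU αU ιU φo
    inferInstance inferInstance inferInstance hb (IsPullback.of_hasPullback (st c.pt) b)
    (by simpa using hte (𝟙 _) (repWith_id @Etale Us))
    (fun i => IsPullback.of_hasPullback u (cm c i)) hφ
  refine ⟨(yon S).map fz, ⟨h1, h2⟩, fun f hf => ?_⟩
  obtain ⟨f, rfl⟩ := (yon S).map_surjective f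
  exact congrArg (yon S).map (huniq f hf)

/-- A space etale over `c.pt ×_B B'` maps uniquely to an affine scheme over `B'` inducing given maps. -/
theorem existsUnique_over {U : Sp S} (hU : IsAlgSpace U) {u : U ⟶ sh c.pt}
    (t : U ⟶ pullback (st c.pt) b) (ht : t ≫ pullback.fst (st c.pt) b = u)
    (hte : IsEtaleMor t) (φ : ∀ i, pullback u (cm c i) ⟶ (yon S).obj Zs)
    (hn : IsNat (cm c) (cm_compat c) u φ)
    (hφ : ∀ i, φ i ≫ (yon S).map z = pullback.fst u (cm c i) ≫ t ≫ pullback.snd (st c.pt) b) :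
    ∃! f : U ⟶ (yon S).obj Zs, f ≫ (yon S).map z = t ≫ pullback.snd (st c.pt) b ∧
      ∀ i, pullback.fst u (cm c i) ≫ f = φ i := by
  subst ht
  have hXB : IsAlgSpace (pullback (st c.pt) b) :=
    isAlgSpace_pullback (alg _) (IsAlgSpace.yon_obj B') B.property _ _
  let u := t ≫ pullback.fst (st c.pt) b
  -- the affine case for all etale maps from affine schemes
  have key : ∀ (W : Over S) [IsAffine W.left] (k : (yon S).obj W ⟶ U), IsEtaleMor k →
      ∃! f : (yon S).obj W ⟶ (yon S).obj Zs, f ≫ (yon S).map z = (k ≫ t) ≫ pullback.snd (st c.pt) b ∧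
        ∀ i, pullback.fst (k ≫ u) (cm c i) ≫ f = res (cm c) k rfl i ≫ φ i := fun W _ k hk =>
    existsUnique_affine h₂ b hb z W (k ≫ t) (Category.assoc _ _ _)
      (isEtaleMor_comp (IsAlgSpace.yon_obj W) hU hXB hk hte) (fun i => res (cm c) k rfl i ≫ φ i)
      (hn.res (cm_compat c) k rfl) (fun i => by rw [Category.assoc, hφ i, res_fst_assoc]; simp)
  -- an affine etale cover
  obtain ⟨V, p, hp, hp'⟩ := hU.atlas
  let 𝒱 := V.left.affineOpenCover
  let A : 𝒱.I₀ → Over S := fun j => Over.mk (𝒱.f j ≫ V.hom)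
  have hA : ∀ j, IsAffine (A j).left := fun j => inferInstanceAs (IsAffine (Spec _))
  let ε : ∀ j, A j ⟶ V := fun j => Over.homMk (𝒱.f j) rfl
  let a : ∀ j, (yon S).obj (A j) ⟶ U := fun j => (yon S).map (ε j) ≫ p
  have hae : ∀ j, IsEtaleMor (a j) := fun j => by
    have : IsOpenImmersion (ε j).left := 𝒱.openCover.map_prop j
    exact isEtaleMor_of_repWith (repWith_comp ((repWith_yon_map_iff _ _).2 (inferInstance : Etale (ε j).left)) hp)
  have has : ∀ x, ∃ j y, Points.map (a j) y = x := fun x => by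
    obtain ⟨v, rfl⟩ := surjective_ofPt hp' x
    obtain ⟨j, y, hy⟩ := 𝒱.openCover.exists_eq v
    exact ⟨j, Points.ofScheme (A j) y, by rw [← Points.ofPt_eq_map_ofScheme, ofPt_comp, ← hy]; rfl⟩
  choose f hf hfu using fun j => key (A j) (a j) (hae j)
  obtain ⟨f₀, hf₀⟩ := exists_desc_family hU (fun j => IsAlgSpace.yon_obj (A j)) a hae has f (fun j l => by
    have hO : IsAlgSpace (pullback (a j) (a l)) :=
      isAlgSpace_pullback (IsAlgSpace.yon_obj _) (IsAlgSpace.yon_obj _) hU _ _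
    have h1 : IsEtaleMor (pullback.fst (a j) (a l)) := isEtaleMor_of_isPullback
      (IsPullback.of_hasPullback (a j) (a l)).flip (IsAlgSpace.yon_obj _) hU (IsAlgSpace.yon_obj _) (hae l)
    obtain ⟨W, q, hq, hq'⟩ := hO.atlas
    have := epi_of_etale_surjective hq hq'
    rw [← cancel_epi q]
    refine AlgSpDec.hom_ext_of_openCover W.left.affineOpenCover.openCover _ _ fun m => ?_
    let Wm : Over S := Over.mk (W.left.affineOpenCover.openCover.f m ≫ W.hom)
    have : IsAffine Wm.left := inferInstanceAs (IsAffine (Spec _))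
    let ι : Wm ⟶ W := Over.homMk (W.left.affineOpenCover.openCover.f m) rfl
    have : IsOpenImmersion ι.left := W.left.affineOpenCover.openCover.map_prop m
    let k₁ : (yon S).obj Wm ⟶ (yon S).obj (A j) := (yon S).map ι ≫ q ≫ pullback.fst (a j) (a l)
    let k₂ : (yon S).obj Wm ⟶ (yon S).obj (A l) := (yon S).map ι ≫ q ≫ pullback.snd (a j) (a l)
    have hk : k₂ ≫ a l = k₁ ≫ a j := by simp only [k₁, k₂, Category.assoc, pullback.condition]
    have hke : IsEtaleMor (k₁ ≫ a j) :=
      isEtaleMor_comp (IsAlgSpace.yon_obj _) (IsAlgSpace.yon_obj _) hU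
        (isEtaleMor_comp (IsAlgSpace.yon_obj _) (IsAlgSpace.yon_obj W) (IsAlgSpace.yon_obj _)
          (isEtaleMor_of_repWith ((repWith_yon_map_iff _ _).2 (inferInstance : Etale ι.left)))
          (isEtaleMor_comp (IsAlgSpace.yon_obj W) hO (IsAlgSpace.yon_obj _) (isEtaleMor_of_repWith hq) h1))
        (hae j)
    obtain ⟨F, -, hF⟩ := key Wm (k₁ ≫ a j) hke
    have h₁ : k₁ ≫ a j ≫ u = (k₁ ≫ a j) ≫ u := (Category.assoc _ _ _).symm
    have h₂ : k₂ ≫ a l ≫ u = (k₁ ≫ a j) ≫ u :=
      (Category.assoc _ _ _).symm.trans (congrArg (· ≫ u) hk)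
    have e₁ : k₁ ≫ f j = F := hF _ ⟨by rw [Category.assoc, (hf j).1]; simp only [Category.assoc], fun i => by
      have := congrArg (res (cm c) k₁ h₁ i ≫ ·) ((hf j).2 i)
      simp only [res_fst_assoc] at this
      refine this.trans ?_
      refine (Category.assoc _ _ _).symm.trans (congrArg (· ≫ φ i) ?_)
      exact res_res (a j) rfl k₁ h₁ (k₁ ≫ a j) rfl rfl i⟩
    have e₂ : k₂ ≫ f l = F := hF _ ⟨by rw [Category.assoc, (hf l).1, ← hk]; simp only [Category.assoc], fun i => by
      have := congrArg (res (cm c) k₂ h₂ i ≫ ·) ((hf l).2 i)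
      simp only [res_fst_assoc] at this
      refine this.trans ?_
      refine (Category.assoc _ _ _).symm.trans (congrArg (· ≫ φ i) ?_)
      exact res_res (a l) rfl k₂ h₂ (k₁ ≫ a j) rfl hk i⟩
    simpa only [k₁, k₂, Category.assoc] using e₁.trans e₂.symm)
  refine ⟨f₀, ⟨hom_ext_family hU (fun j => IsAlgSpace.yon_obj (A j)) a hae has fun j => by
    rw [reassoc_of% (hf₀ j), (hf j).1]; exact Category.assoc _ _ _, fun i => ?_⟩, fun f' hf' => ?_⟩
  · refine hom_ext_family (isAlgSpace_pullback hU (alg _) (alg _) _ _)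
      (fun j => isAlgSpace_pullback (IsAlgSpace.yon_obj (A j)) (alg _) (alg _) _ _)
      (fun j => res (cm c) (a j) rfl i) (fun j => ?_) (fun x => ?_) fun j => ?_
    · refine isEtaleMor_of_isPullback (f := a j) (g' := pullback.fst _ _) (g := pullback.fst u (cm c i)) ?_ (IsAlgSpace.yon_obj _) hU
        (isAlgSpace_pullback hU (alg _) (alg _) _ _) (hae j)
      refine IsPullback.of_bot ?_ (res_fst (a j) rfl i).symm (IsPullback.of_hasPullback u (cm c i)).flip.flip
      rw [res_snd]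
      exact IsPullback.of_hasPullback (a j ≫ u) (cm c i)
    · obtain ⟨j, y, hy⟩ := has (Points.map (pullback.fst u (cm c i)) x)
      have sqj : IsPullback (res (cm c) (a j) rfl i) (pullback.fst (a j ≫ u) (cm c i)) (pullback.fst u (cm c i)) (a j) := by
        refine (IsPullback.of_bot ?_ (res_fst (a j) rfl i).symm (IsPullback.of_hasPullback u (cm c i)).flip.flip).flip
        rw [res_snd]
        exact IsPullback.of_hasPullback (a j ≫ u) (cm c i)
      obtain ⟨w, hw, -⟩ := exists_point_of_isPullback sqj hy.symm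
      exact ⟨j, w, hw⟩
    · rw [res_fst_assoc, hf₀ j, (hf j).2 i]
  · refine hom_ext_family hU (fun j => IsAlgSpace.yon_obj (A j)) a hae has fun j => ?_
    rw [hf₀ j]
    exact hfu j _ ⟨(Category.assoc _ _ _).trans ((congrArg (a j ≫ ·) hf'.1).trans (Category.assoc _ _ _).symm), fun i => by
      rw [← res_fst_assoc (a j) rfl i, hf'.2 i]⟩

end Groth.Agent.EtColim
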