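import Groth.Agent.EtColim.Key
import Groth.Agent.AlgSpPts.OpenSub
import Groth.Agent.AlgSpDec.LimImmersion
import Groth.Agent.AlgSpLib.LargestOpenTop

/-!
# Recognising colimits of spaces by etale base change
-/

set_option autoImplicit false
set_option backward.isDefEq.respectTransparency false
set_option backward.isDefEq.respectTransparency.types false

universe v w u

open CategoryTheory CategoryTheory.Limits AlgebraicGeometry Opposite AlgSp

namespace Groth.Agent.EtColim

open Groth.Agent.AlgSpLib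

variable {S : Scheme.{u}} {B : Space S} {I : Type v} [Category.{w} I] {D : I ⥤ Over B} {c : Cocone D}

/-- Etale systems come from the target of the cocone. -/
def EssSurjective (c : Cocone D) : Prop :=
  ∀ (D' : I ⥤ Over B) (α : D' ⟶ D),
      (∀ ⦃i j : I⦄ (g : i ⟶ j), IsPullback (D'.map g).left.hom (α.app i).left.hom (α.app j).left.hom (D.map g).left.hom) →
      (∀ i, AlgSp.IsEtaleMor (α.app i).left.hom) →
        ∃ (c' : Cocone D') (a : c'.pt ⟶ c.pt), AlgSp.IsEtaleMor a.left.hom ∧
          ∀ i, IsPullback (c'.ι.app i).left.hom (α.app i).left.hom a.left.hom (c.ι.app i).left.hom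

variable (h₁ : EssSurjective c) (h₁' : FullyFaithful c) (h₂ : AffineUnique c)

include h₁' h₂

/-- Two maps to a space agree if they agree on the base change of the cocone. -/
theorem hom_ext_target {T : Sp S} (hT : IsAlgSpace T) (tB : T ⟶ B.obj) {κ : Type u} {B' Z : κ → Over S}
    {b : ∀ k, (yon S).obj (B' k) ⟶ B.obj} {z : ∀ k, Z k ⟶ B' k} {q : ∀ k, (yon S).obj (Z k) ⟶ T}
    (hB' : ∀ k, IsAffine (B' k).left) (hZ : ∀ k, IsAffine (Z k).left) (hb : ∀ k, RepWith @Etale (b k))
    (hq : ∀ k, RepWith @Etale (q k)) (hqb : ∀ k, q k ≫ tB = (yon S).map (z k) ≫ b k)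
    (hs : ∀ p, ∃ k w, Points.map (q k) w = p)
    {U : Sp S} (hU : IsAlgSpace U) {u : U ⟶ sh c.pt} (hu : IsEtaleMor u) {a a' : U ⟶ T}
    (ha : a ≫ tB = u ≫ st c.pt) (ha' : a' ≫ tB = u ≫ st c.pt)
    (h : ∀ i, pullback.fst u (cm c i) ≫ a = pullback.fst u (cm c i) ≫ a') : a = a' := by
  have hZk : ∀ k, IsAlgSpace ((yon S).obj (Z k)) := fun k => IsAlgSpace.yon_obj _
  have hae : ∀ k, IsEtaleMor (pullback.fst a (q k)) := fun k => isEtaleMor_of_isPullback
    (IsPullback.of_hasPullback a (q k)).flip (hZk k) hT hU (isEtaleMor_of_repWith (hq k))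
  refine hom_ext_family hU (fun k => isAlgSpace_pullback hU (hZk k) hT a (q k)) (fun k => pullback.fst a (q k))
    hae (fun x => ?_) fun k => ?_
  · obtain ⟨k, w, hw⟩ := hs (Points.map a x)
    obtain ⟨y, hy, -⟩ := exists_point_of_isPullback (IsPullback.of_hasPullback a (q k)) hw.symm
    exact ⟨k, y, hy⟩
  have := hB' k
  have := hZ k
  let F := pullback a (q k)
  let F' := pullback a' (q k)
  have hF : IsAlgSpace F := isAlgSpace_pullback hU (hZk k) hT a (q k)
  have hF' : IsAlgSpace F' := isAlgSpace_pullback hU (hZk k) hT a' (q k)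
  let v : F ⟶ sh c.pt := pullback.fst a (q k) ≫ u
  let v' : F' ⟶ sh c.pt := pullback.fst a' (q k) ≫ u
  have hv : IsEtaleMor v := isEtaleMor_comp hF hU (alg _) (hae k) hu
  have hv' : IsEtaleMor v' := isEtaleMor_comp hF' hU (alg _) (isEtaleMor_of_isPullback
    (IsPullback.of_hasPullback a' (q k)).flip (hZk k) hT hU (isEtaleMor_of_repWith (hq k))) hu
  have hw : ∀ i, pullback.fst v (cm c i) ≫ pullback.fst a (q k) ≫ a' =
      pullback.fst v (cm c i) ≫ pullback.snd a (q k) ≫ q k := fun i => by
    rw [← pullback.condition, ← res_fst_assoc (pullback.fst a (q k)) rfl i,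
      ← res_fst_assoc (pullback.fst a (q k)) rfl i, h i]
  let β : ∀ i, pullback v (cm c i) ⟶ F' := fun i =>
    pullback.lift (pullback.fst v (cm c i) ≫ pullback.fst a (q k)) (pullback.fst v (cm c i) ≫ pullback.snd a (q k))
      (by rw [Category.assoc, Category.assoc, hw i])
  obtain ⟨m, ⟨hm, hmi⟩, -⟩ := existsUnique_hom_etale h₁' hF hF' hv hv' β
    (fun i j g => by
      apply pullback.hom_ext
      · simp only [β, Category.assoc, pullback.lift_fst, tr_fst_assoc]
      · simp only [β, Category.assoc, pullback.lift_snd, tr_fst_assoc])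
    (fun i => by simp only [β, v', v, pullback.lift_fst_assoc, Category.assoc])
  have hmf : m ≫ pullback.fst a' (q k) = pullback.fst a (q k) :=
    hom_ext_etale h₁' hF hU hv hu ((Category.assoc _ _ _).trans hm) rfl fun i => by
      rw [← Category.assoc, hmi i, pullback.lift_fst]
  let X := pullback (st c.pt) (b k)
  have hX : IsAlgSpace X := isAlgSpace_pullback (alg _) (IsAlgSpace.yon_obj _) B.property _ _
  have hXe : IsEtaleMor (pullback.fst (st c.pt) (b k)) := isEtaleMor_of_isPullback
    (IsPullback.of_hasPullback (st c.pt) (b k)).flip (IsAlgSpace.yon_obj _) B.property (alg _)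
    (isEtaleMor_of_repWith (hb k))
  let t : F ⟶ X := pullback.lift v (pullback.snd a (q k) ≫ (yon S).map (z k)) (by
    rw [Category.assoc, Category.assoc, ← ha, pullback.condition_assoc, hqb])
  let t' : F ⟶ X := pullback.lift v ((m ≫ pullback.snd a' (q k)) ≫ (yon S).map (z k)) (by
    simp only [Category.assoc]
    rw [← hqb, ← pullback.condition_assoc, reassoc_of% hmf, ha']
    exact Category.assoc _ _ _)
  have hsnd : ∀ i, pullback.fst v (cm c i) ≫ m ≫ pullback.snd a' (q k) =
      pullback.fst v (cm c i) ≫ pullback.snd a (q k) := fun i => by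
    rw [← Category.assoc, hmi i, pullback.lift_snd]
  have htt : t = t' := hom_ext_etale h₁' hF hX hv hXe (pullback.lift_fst _ _ _) (pullback.lift_fst _ _ _)
    fun i => by
      apply pullback.hom_ext
      · simp only [t, t', Category.assoc, pullback.lift_fst]
      · simp only [t, t', Category.assoc, pullback.lift_snd]
        rw [reassoc_of% (hsnd i)]
  obtain ⟨f, -, hf⟩ := existsUnique_over h₂ (b k) (hb k) (z k) hF t (pullback.lift_fst _ _ _)
    (isEtaleMor_of_comp hF hX (alg _) (by rw [pullback.lift_fst]; exact hv) hXe)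
    (fun i => pullback.fst v (cm c i) ≫ pullback.snd a (q k)) (isNat_fst _ _ _)
    (fun i => by simp only [t, Category.assoc, pullback.lift_snd])
  have e₁ : pullback.snd a (q k) = f := hf _ ⟨(pullback.lift_snd _ _ _).symm, fun i => rfl⟩
  have e₂ : m ≫ pullback.snd a' (q k) = f := hf _ ⟨by rw [htt]; exact (pullback.lift_snd _ _ _).symm, hsnd⟩
  rw [pullback.condition, e₁, ← e₂, Category.assoc, ← pullback.condition, reassoc_of% hmf]

include h₁

/-- A cocone satisfying the etale base change conditions is a colimit. -/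
theorem nonempty_isColimit : Nonempty (IsColimit c) := by
  refine ⟨IsColimit.ofExistsUnique fun s => ?_⟩
  let T := sh s.pt
  have hT : IsAlgSpace T := alg s.pt
  have hP : IsAlgSpace (sh c.pt) := alg c.pt
  obtain ⟨κ, B', Z, b, z, q, hB', hZ, hb, hq, hqb, hs⟩ := exists_charts B.property hT (st s.pt)
  have hγ : Compat (cm s) := cm_compat s
  have hqe : ∀ k, IsEtaleMor (q k) := fun k => isEtaleMor_of_repWith (hq k)
  choose c' a hae sqa using fun k => h₁ _ (sysα hγ (q k) hT (IsAlgSpace.yon_obj (Z k)))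
    (fun i j g => sys_isPullback hγ (q k) hT (IsAlgSpace.yon_obj (Z k)) g)
    (fun i => isEtaleMor_of_isPullback (IsPullback.of_hasPullback (q k) (cm s i)) (IsAlgSpace.yon_obj _) hT
      (alg _) (hqe k))
  let U : κ → Sp S := fun k => sh (c' k).pt
  let u : ∀ k, U k ⟶ sh c.pt := fun k => mr (a k)
  let e : ∀ k i, pullback (u k) (cm c i) ⟶ pullback (q k) (cm s i) := fun k i =>
    (sqa k i).lift (pullback.fst _ _) (pullback.snd _ _) pullback.condition
  have he₁ : ∀ k i, e k i ≫ mr ((c' k).ι.app i) = pullback.fst (u k) (cm c i) := fun k i => (sqa k i).lift_fst _ _ _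
  have he₂ : ∀ k i, e k i ≫ pullback.snd (q k) (cm s i) = pullback.snd (u k) (cm c i) := fun k i =>
    (sqa k i).lift_snd _ _ _
  have hen : ∀ k ⦃i j : I⦄ (g : i ⟶ j),
      tr (cm c) (cm_compat c) (u k) g ≫ e k j = e k i ≫ tr (cm s) hγ (q k) g := fun k i j g => by
    apply (sqa k j).hom_ext
    · rw [Category.assoc, he₁, tr_fst, Category.assoc]
      exact (he₁ k i).symm.trans (congrArg (e k i ≫ ·) (cm_compat (c' k) g).symm)
    · change (tr (cm c) (cm_compat c) (u k) g ≫ e k j) ≫ pullback.snd (q k) (cm s j) =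
        (e k i ≫ tr (cm s) hγ (q k) g) ≫ pullback.snd (q k) (cm s j)
      rw [Category.assoc, he₂, tr_snd, Category.assoc, tr_snd, reassoc_of% (he₂ k i)]
  let β : ∀ k i, pullback (u k) (cm c i) ⟶ (yon S).obj (Z k) := fun k i => e k i ≫ pullback.fst (q k) (cm s i)
  have hβn : ∀ k, IsNat (cm c) (cm_compat c) (u k) (β k) := fun k i j g => by
    simp only [β]
    rw [reassoc_of% (hen k g), tr_fst]
  have hβq : ∀ k i, β k i ≫ q k = pullback.snd (u k) (cm c i) ≫ cm s i := fun k i => by
    simp only [β, Category.assoc, pullback.condition]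
    rw [reassoc_of% (he₂ k i)]
  have hβb : ∀ k i, β k i ≫ (yon S).map (z k) ≫ b k = pullback.fst (u k) (cm c i) ≫ u k ≫ st c.pt := fun k i => by
    rw [← hqb, reassoc_of% (hβq k i), cm_st, pullback.condition_assoc, cm_st]
  -- the maps on the pieces
  have hg : ∀ k, ∃ g : U k ⟶ T, g ≫ st s.pt = u k ≫ st c.pt ∧
      ∀ i, pullback.fst (u k) (cm c i) ≫ g = pullback.snd (u k) (cm c i) ≫ cm s i := fun k => by
    have := hB' k
    have := hZ k
    let X := pullback (st c.pt) (b k)
    have hX : IsAlgSpace X := isAlgSpace_pullback hP (IsAlgSpace.yon_obj _) B.property _ _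
    have hXe : IsEtaleMor (pullback.fst (st c.pt) (b k)) := isEtaleMor_of_isPullback
      (IsPullback.of_hasPullback (st c.pt) (b k)).flip (IsAlgSpace.yon_obj _) B.property hP
      (isEtaleMor_of_repWith (hb k))
    obtain ⟨t, ⟨ht, hti⟩, -⟩ := existsUnique_hom_etale h₁' (alg _) hX (hae k) hXe
      (fun i => pullback.lift (pullback.fst (u k) (cm c i) ≫ u k) (β k i ≫ (yon S).map (z k))
        (by rw [Category.assoc, Category.assoc, hβb]))
      (fun i j g => by
        apply pullback.hom_ext
        · simp only [Category.assoc, pullback.lift_fst]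
          exact tr_fst_assoc _ _ g _
        · simp only [Category.assoc, pullback.lift_snd]
          rw [reassoc_of% (hβn k g)])
      (fun i => pullback.lift_fst _ _ _)
    obtain ⟨f, ⟨hf, hfi⟩, -⟩ := existsUnique_over h₂ (b k) (hb k) (z k) (alg _) t ht
      (isEtaleMor_of_comp (alg _) hX hP (by rw [ht]; exact hae k) hXe) (β k) (hβn k)
      (fun i => by rw [reassoc_of% (hti i), pullback.lift_snd])
    refine ⟨f ≫ q k, ?_, fun i => ?_⟩
    · rw [Category.assoc, hqb, reassoc_of% hf, ← pullback.condition, reassoc_of% ht]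
    · rw [reassoc_of% (hfi i), hβq]
  choose g hgB hgi using hg
  -- joint surjectivity
  have hlift : ∀ i (p : Points (sh (D.obj i))), ∃ k w, Points.map (pullback.snd (u k) (cm c i)) w = p := fun i p => by
    obtain ⟨k, w, hw⟩ := hs (Points.map (cm s i) p)
    obtain ⟨y, -, hy⟩ := exists_point_of_isPullback (IsPullback.of_hasPullback (q k) (cm s i)) hw
    have h' : Points.map (u k) (Points.map (mr ((c' k).ι.app i)) y) = Points.map (cm c i) p := by
      rw [← Points.map_comp, (sqa k i).w, Points.map_comp]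
      exact congrArg _ hy
    obtain ⟨x, -, hx⟩ := exists_point_of_isPullback (IsPullback.of_hasPullback (u k) (cm c i)) h'
    exact ⟨k, x, hx⟩
  have hus : ∀ x, ∃ k y, Points.map (u k) y = x := by
    let O : Set (Points (sh c.pt)) := ⋃ k, Set.range (Points.map (u k))
    have hO : IsOpen O := isOpen_iUnion fun k =>
      ((openTopology_etale (S := S)).isOpenMap (alg _) hP (u k) (hae k)).isOpen_range
    obtain ⟨P₀, j, hP₀, hj, hjr⟩ := AlgSpPts.exists_open_subspace hP hO
    have : Mono j := AlgSpDec.mono_of_openImm hj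
    have hiso : ∀ i, IsIso (pullback.snd j (cm c i)) := fun i =>
      AlgSpDec.isIso_of_openImm_surjective (alg _) (repWith_of_isPullback (IsPullback.of_hasPullback j (cm c i)) hj)
        fun p => by
          obtain ⟨k, w, hw⟩ := hlift i p
          have : Points.map (cm c i) p ∈ Set.range (Points.map j) := by
            rw [hjr]
            refine Set.mem_iUnion.2 ⟨k, Points.map (pullback.fst (u k) (cm c i)) w, ?_⟩
            rw [← hw, ← Points.map_comp, ← Points.map_comp, pullback.condition]
          obtain ⟨y, hy⟩ := this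
          obtain ⟨x, -, hx⟩ := exists_point_of_isPullback (IsPullback.of_hasPullback j (cm c i)) hy
          exact ⟨x, hx⟩
    have hh : ∀ i, ∃ β₀ : pullback (𝟙 (sh c.pt)) (cm c i) ⟶ P₀, β₀ ≫ j = pullback.fst _ _ ≫ 𝟙 _ := fun i => by
      have := hiso i
      exact ⟨pullback.snd _ _ ≫ inv (pullback.snd j (cm c i)) ≫ pullback.fst j (cm c i), by
        simp only [Category.assoc, pullback.condition, IsIso.inv_hom_id_assoc]⟩
    choose β₀ hβ₀ using hh
    obtain ⟨m, ⟨hm, -⟩, -⟩ := existsUnique_hom_etale h₁' hP hP₀ (isEtaleMor_of_isIso (𝟙 (sh c.pt)))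
      (isEtaleMor_of_repWith_isOpenImmersion hj) β₀ (fun i i' g => by
        rw [← cancel_mono j, Category.assoc, hβ₀, hβ₀, tr_fst_assoc]) hβ₀
    intro x
    have : x ∈ O := hjr.subset ⟨Points.map m x, by rw [← Points.map_comp, hm, Points.map_id]⟩
    obtain ⟨k, y, hy⟩ := Set.mem_iUnion.1 this
    exact ⟨k, y, hy⟩
  -- agreement and descent
  have hU : ∀ k, IsAlgSpace (U k) := fun k => alg _
  obtain ⟨g₀, hg₀⟩ := exists_desc_family hP hU u hae hus g fun k l => by
    have hR : IsAlgSpace (pullback (u k) (u l)) := isAlgSpace_pullback (hU k) (hU l) hP _ _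
    refine hom_ext_target h₁' h₂ hT (st s.pt) hB' hZ hb hq hqb hs hR
      (u := pullback.fst (u k) (u l) ≫ u k) (isEtaleMor_comp hR (hU k) hP (isEtaleMor_of_isPullback
        (IsPullback.of_hasPullback (u k) (u l)).flip (hU l) hP (hU k) (hae l)) (hae k)) ?_ ?_ fun i => ?_
    · rw [Category.assoc, hgB, Category.assoc]
    · rw [Category.assoc, hgB, ← pullback.condition_assoc, Category.assoc]
    · rw [← res_fst_assoc (pullback.fst (u k) (u l)) rfl i,
        ← res_fst_assoc (pullback.snd (u k) (u l)) pullback.condition.symm i, hgi, hgi, res_snd_assoc, res_snd_assoc]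
  have hg₀B : g₀ ≫ st s.pt = st c.pt := hom_ext_family hP hU u hae hus fun k => by
    rw [reassoc_of% (hg₀ k), hgB]
  have hg₀i : ∀ i, cm c i ≫ g₀ = cm s i := fun i => by
    refine hom_ext_family (alg _) (fun k => isAlgSpace_pullback (hU k) (alg _) hP _ _)
      (fun k => pullback.snd (u k) (cm c i)) (fun k => isEtaleMor_of_isPullback
        (IsPullback.of_hasPullback (u k) (cm c i)) (hU k) hP (alg _) (hae k)) (hlift i) fun k => ?_
    rw [← pullback.condition_assoc, hg₀ k, hgi]
  refine ⟨mkHom g₀ hg₀B, fun i => mr_ext (hg₀i i), fun m hm => mr_ext ?_⟩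
  refine hom_ext_target h₁' h₂ hT (st s.pt) hB' hZ hb hq hqb hs hP (u := 𝟙 _)
    (isEtaleMor_of_isIso _) ?_ ?_ fun i => ?_
  · rw [Category.id_comp]; exact mr_st m
  · rw [Category.id_comp]; exact hg₀B
  · have e₁ : pullback.fst (𝟙 (sh c.pt)) (cm c i) = pullback.snd (𝟙 _) (cm c i) ≫ cm c i := by
      rw [← pullback.condition, Category.comp_id]
    rw [e₁, Category.assoc, Category.assoc]
    exact congrArg (_ ≫ ·) ((congrArg mr (hm i)).trans (hg₀i i).symm)

end Groth.Agent.EtColim
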